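import Groth.Prelude.Def_W4c1arstab1appArSing
import Mathlib

/-!
# The algebras `k[[x, y]]/(y^2 - x^(r+1))`: normal form `f(x) + g(x) y`, branches, endomorphisms
-/

set_option autoImplicit false
universe u

namespace Groth.Agent.ArSingInv

open ArSing

variable {k : Type u} [Field k] {r : ℕ}

local notation "Q2" => MvPowerSeries (Fin 2) k
local notation "P" => PowerSeries k
local notation "A" => ArSing.ring k r

theorem const_map_X (h : P →ₐ[k] P) : PowerSeries.constantCoeff (h PowerSeries.X) = 0 := by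
  by_contra hc
  have hu : IsUnit (PowerSeries.X - PowerSeries.C (PowerSeries.constantCoeff (h PowerSeries.X))) := by
    rw [PowerSeries.isUnit_iff_constantCoeff]; simpa using hc
  have h2 : h (PowerSeries.X - PowerSeries.C (PowerSeries.constantCoeff (h PowerSeries.X))) =
      h PowerSeries.X - PowerSeries.C (PowerSeries.constantCoeff (h PowerSeries.X)) := by
    rw [map_sub]; exact congrArg _ (h.commutes _)
  have := PowerSeries.isUnit_constantCoeff _ (hu.map h)
  rw [h2, map_sub, PowerSeries.constantCoeff_C, sub_self] at this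
  exact not_isUnit_zero this

theorem algHom_ext_X (f g : P →ₐ[k] P) (hX : f PowerSeries.X = g PowerSeries.X) : f = g := by
  refine AlgHom.ext fun p => PowerSeries.ext fun n => ?_
  have hd : PowerSeries.X ^ (n + 1) ∣ p - (PowerSeries.trunc (n + 1) p : P) := PowerSeries.X_pow_dvd_iff.mpr fun m hm => by
    rw [map_sub, Polynomial.coeff_coe, PowerSeries.coeff_trunc, if_pos hm, sub_self]
  obtain ⟨s, hs⟩ := hd
  have key : ∀ h : P →ₐ[k] P, PowerSeries.coeff n (h p) = PowerSeries.coeff n (h (PowerSeries.trunc (n + 1) p : P)) := fun h => by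
    have e : h p = h (PowerSeries.trunc (n + 1) p : P) + h PowerSeries.X ^ (n + 1) * h s := by
      rw [← map_pow, ← map_mul, ← map_add, ← hs, add_sub_cancel]
    have hd : PowerSeries.X ^ (n + 1) ∣ h PowerSeries.X ^ (n + 1) * h s :=
      dvd_mul_of_dvd_left (pow_dvd_pow_of_dvd (PowerSeries.X_dvd_iff.mpr (const_map_X h)) _) _
    rw [e, map_add, PowerSeries.X_pow_dvd_iff.mp hd n n.lt_succ_self, add_zero]
  have hpoly : f.comp (Polynomial.coeToPowerSeries.algHom k) = g.comp (Polynomial.coeToPowerSeries.algHom k) :=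
    Polynomial.algHom_ext (by simpa using hX)
  have e := DFunLike.congr_fun hpoly (PowerSeries.trunc (n + 1) p)
  simp only [AlgHom.comp_apply, Polynomial.coeToPowerSeries.algHom_apply] at e
  rw [key f, key g]
  simpa using congrArg (PowerSeries.coeff n) e

variable (k) in
/-- Substitution `t ↦ x`. -/
noncomputable def sub0 : P →ₐ[k] Q2 :=
  PowerSeries.substAlgHom (PowerSeries.HasSubst.of_constantCoeff_zero (MvPowerSeries.constantCoeff_X (0 : Fin 2)))

theorem xMap_apply (f : P) : xMap k r f = Ideal.Quotient.mk _ (sub0 k f) := rfl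

theorem sub0_X : sub0 k PowerSeries.X = MvPowerSeries.X 0 := PowerSeries.substAlgHom_X _

@[simp]
theorem xMap_X : xMap k r PowerSeries.X = x k r := by rw [xMap_apply, sub0_X]

theorem coeff_sub0 (f : P) (m : Fin 2 →₀ ℕ) :
    MvPowerSeries.coeff m (sub0 k f) = if m 1 = 0 then PowerSeries.coeff (m 0) f else 0 := by
  rw [sub0, PowerSeries.coe_substAlgHom, PowerSeries.coeff_subst_single]
  have : m = Finsupp.single 0 (m 0) ↔ m 1 = 0 := ⟨fun h => by rw [h]; simp, fun h => by
    ext i; fin_cases i <;> simp [h]⟩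
  simp [this]

theorem y_sq : y k r ^ 2 = x k r ^ (r + 1) := by
  rw [y, x, ← map_pow, ← map_pow, Ideal.Quotient.eq]
  exact Ideal.mem_span_singleton_self (eqn k r)

/-- Coefficients of the normal form. -/
noncomputable def redCoeff (r : ℕ) (F : Q2) (a b : ℕ) : k :=
  MvPowerSeries.coeff (Finsupp.single 0 a + Finsupp.single 1 b) F +
    if r + 1 ≤ a then redCoeff r F (a - (r + 1)) (b + 2) else 0
termination_by a
decreasing_by omega

theorem exists_eq (a : A) : ∃ f g : P, a = xMap k r f + xMap k r g * y k r := by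
  obtain ⟨F, rfl⟩ := Ideal.Quotient.mk_surjective a
  refine ⟨PowerSeries.mk fun n => redCoeff r F n 0, PowerSeries.mk fun n => redCoeff r F n 1, ?_⟩
  rw [xMap_apply, xMap_apply, y, ← map_mul, ← map_add, Ideal.Quotient.eq, Ideal.mem_span_singleton]
  let G : Q2 := fun m => redCoeff r F (m 0) (m 1 + 2)
  have hG : ∀ m, MvPowerSeries.coeff m G = redCoeff r F (m 0) (m 1 + 2) := fun m => rfl
  refine ⟨G, ?_⟩
  rw [sub_eq_iff_eq_add]
  ext m
  obtain ⟨a, ha⟩ : ∃ a, m 0 = a := ⟨_, rfl⟩
  obtain ⟨b, hb⟩ : ∃ b, m 1 = b := ⟨_, rfl⟩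
  have hm : m = Finsupp.single 0 a + Finsupp.single 1 b := by
    ext i; fin_cases i <;> simp [ha, hb]
  have hrec := redCoeff.eq_def r F a b
  rw [eqn, sub_mul, MvPowerSeries.X_pow_eq, MvPowerSeries.X_pow_eq, map_add, map_add, map_sub,
    mul_comm (sub0 k _) (MvPowerSeries.X 1), MvPowerSeries.X, MvPowerSeries.coeff_monomial_mul,
    MvPowerSeries.coeff_monomial_mul, MvPowerSeries.coeff_monomial_mul, coeff_sub0, coeff_sub0, hG, hG]
  simp only [one_mul, Finsupp.single_le_iff, Finsupp.tsub_apply, Finsupp.single_eq_same, ha, hb, PowerSeries.coeff_mk, ← hm] at hrec ⊢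
  simp only [ne_eq, Fin.zero_eq_one_iff, OfNat.ofNat_ne_one, not_false_eq_true, Finsupp.single_eq_of_ne, tsub_zero,
    Fin.one_eq_zero_iff, ha, hb]
  rcases b with _ | _ | b
  · simp [hrec]
  · simp [hrec]
  · simp [hrec]

/-- Homomorphisms out of `A_r` given by substitution. -/
noncomputable def ev (p q : P) (hp : PowerSeries.constantCoeff p = 0) (hq : PowerSeries.constantCoeff q = 0)
    (h : q ^ 2 = p ^ (r + 1)) : A →ₐ[k] P :=
  Ideal.Quotient.liftₐ _ (MvPowerSeries.substAlgHom (a := ![p, q])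
    (MvPowerSeries.hasSubst_of_constantCoeff_zero (Fin.forall_fin_two.mpr ⟨hp, hq⟩))) fun F hF => by
    obtain ⟨G, rfl⟩ := Ideal.mem_span_singleton.mp hF
    rw [map_mul, eqn, map_sub, map_pow, map_pow, MvPowerSeries.substAlgHom_X, MvPowerSeries.substAlgHom_X]
    simp [h]


@[simp] theorem ev_x (p q : P) (hp : PowerSeries.constantCoeff p = 0) (hq : PowerSeries.constantCoeff q = 0)
    (h : q ^ 2 = p ^ (r + 1)) : ev (r := r) p q hp hq h (x k r) = p := by
  rw [ev, x, Ideal.Quotient.liftₐ_apply, Ideal.Quotient.lift_mk]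
  exact MvPowerSeries.substAlgHom_X (MvPowerSeries.hasSubst_of_constantCoeff_zero (Fin.forall_fin_two.mpr ⟨hp, hq⟩)) _

@[simp] theorem ev_y (p q : P) (hp : PowerSeries.constantCoeff p = 0) (hq : PowerSeries.constantCoeff q = 0)
    (h : q ^ 2 = p ^ (r + 1)) : ev (r := r) p q hp hq h (y k r) = q := by
  rw [ev, y, Ideal.Quotient.liftₐ_apply, Ideal.Quotient.lift_mk]
  exact MvPowerSeries.substAlgHom_X (MvPowerSeries.hasSubst_of_constantCoeff_zero (Fin.forall_fin_two.mpr ⟨hp, hq⟩)) _

theorem ev_xMap (p q : P) (hp : PowerSeries.constantCoeff p = 0) (hq : PowerSeries.constantCoeff q = 0)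
    (h : q ^ 2 = p ^ (r + 1)) (f : P) : ev (r := r) p q hp hq h (xMap k r f) =
    PowerSeries.substAlgHom (PowerSeries.HasSubst.of_constantCoeff_zero' hp) f :=
  DFunLike.congr_fun (algHom_ext_X ((ev (r := r) p q hp hq h).comp (xMap k r)) _ (by
    rw [AlgHom.comp_apply, xMap_X, ev_x]; exact (PowerSeries.substAlgHom_X _).symm)) f

variable (k r) in
/-- `x ↦ s^2, y ↦ ± s^(r+1)`. -/
noncomputable def evS (ε : k) (hε : ε ^ 2 = 1) : A →ₐ[k] P :=
  ev (r := r) (PowerSeries.X ^ 2) (PowerSeries.C ε * PowerSeries.X ^ (r + 1)) (by simp) (by simp)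
    (by rw [mul_pow, ← map_pow, hε, map_one, one_mul, ← pow_mul, ← pow_mul, Nat.mul_comm])

variable (k) in
/-- `f ↦ f(t^2)`. -/
noncomputable def sq : P →ₐ[k] P := PowerSeries.substAlgHom (PowerSeries.HasSubst.X_pow two_ne_zero)

theorem sq_X : sq k PowerSeries.X = PowerSeries.X ^ 2 := PowerSeries.substAlgHom_X _

theorem coeff_sq (f : P) (n : ℕ) : PowerSeries.coeff n (sq k f) = if 2 ∣ n then PowerSeries.coeff (n / 2) f else 0 := by
  rw [sq, PowerSeries.coe_substAlgHom, PowerSeries.coeff_subst_X_pow two_ne_zero, Algebra.algebraMap_self, RingHom.id_apply]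

theorem sq_injective : Function.Injective (sq k) := fun f g h => PowerSeries.ext fun n => by
  have := congrArg (PowerSeries.coeff (2 * n)) h
  rwa [coeff_sq, coeff_sq, if_pos (dvd_mul_right 2 n), if_pos (dvd_mul_right 2 n), Nat.mul_div_cancel_left n two_pos] at this

theorem evS_apply (ε : k) (hε : ε ^ 2 = 1) (f g : P) :
    evS k r ε hε (xMap k r f + xMap k r g * y k r) = sq k f + sq k g * (PowerSeries.C ε * PowerSeries.X ^ (r + 1)) := by
  rw [map_add, map_mul, evS, ev_xMap, ev_xMap, ev_y]; rfl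

theorem eq_zero_of (h2 : (2 : k) ≠ 0) {f g : P} (h : xMap k r f + xMap k r g * y k r = 0) : f = 0 ∧ g = 0 := by
  have hp := congrArg (evS k r 1 (one_pow 2)) h
  have hm := congrArg (evS k r (-1) (by ring)) h
  rw [evS_apply, map_zero, map_one, one_mul] at hp
  rw [evS_apply, map_zero, map_neg, map_one, neg_one_mul] at hm
  have h2' : (2 : P) ≠ 0 := fun h0 => h2 (by simpa [map_ofNat] using congrArg PowerSeries.constantCoeff h0)
  have hf : sq k f = 0 := by
    have : (2 : P) * sq k f = 0 := by linear_combination hp + hm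
    exact (mul_eq_zero.mp this).resolve_left h2'
  rw [hf, zero_add] at hp
  exact ⟨sq_injective (hf.trans (map_zero _).symm),
    sq_injective (((mul_eq_zero.mp hp).resolve_right (pow_ne_zero _ PowerSeries.X_ne_zero)).trans (map_zero _).symm)⟩

theorem ext_iff' (h2 : (2 : k) ≠ 0) {f g f' g' : P} :
    xMap k r f + xMap k r g * y k r = xMap k r f' + xMap k r g' * y k r ↔ f = f' ∧ g = g' := by
  refine ⟨fun h => ?_, fun ⟨h, h'⟩ => by rw [h, h']⟩
  have := eq_zero_of (r := r) (f := f - f') (g := g - g') h2 (by rw [map_sub, map_sub]; linear_combination h)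
  exact ⟨sub_eq_zero.mp this.1, sub_eq_zero.mp this.2⟩

theorem evS_joint (h2 : (2 : k) ≠ 0) {a b : A}
    (hp : evS k r 1 (one_pow 2) a = evS k r 1 (one_pow 2) b)
    (hm : evS k r (-1) (by ring) a = evS k r (-1) (by ring) b) : a = b := by
  obtain ⟨f, g, hab⟩ := exists_eq (a - b)
  have h1 : evS k r 1 (one_pow 2) (a - b) = 0 := by rw [map_sub, hp, sub_self]
  have h1' : evS k r (-1) (by ring) (a - b) = 0 := by rw [map_sub, hm, sub_self]
  rw [hab, evS_apply, map_one, one_mul] at h1
  rw [hab, evS_apply, map_neg, map_one, neg_one_mul] at h1'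
  have h2' : (2 : P) ≠ 0 := fun h0 => h2 (by simpa [map_ofNat] using congrArg PowerSeries.constantCoeff h0)
  have hf : sq k f = 0 := by
    have : (2 : P) * sq k f = 0 := by linear_combination h1 + h1'
    exact (mul_eq_zero.mp this).resolve_left h2'
  rw [hf, zero_add] at h1
  rw [← sub_eq_zero, hab, sq_injective (hf.trans (map_zero _).symm),
    sq_injective (((mul_eq_zero.mp h1).resolve_right (pow_ne_zero _ PowerSeries.X_ne_zero)).trans (map_zero _).symm),
    map_zero, zero_mul, add_zero]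

theorem hom_ext_X (h2 : (2 : k) ≠ 0) {u v : P →ₐ[k] A} (h : u PowerSeries.X = v PowerSeries.X) : u = v :=
  AlgHom.ext fun f => evS_joint h2
    (DFunLike.congr_fun (algHom_ext_X ((evS k r 1 (one_pow 2)).comp u) ((evS k r 1 (one_pow 2)).comp v) (by simp [h])) f)
    (DFunLike.congr_fun (algHom_ext_X ((evS k r (-1) (by ring)).comp u) ((evS k r (-1) (by ring)).comp v) (by simp [h])) f)

/-- Value of a homomorphism on `xMap f`. -/
theorem map_xMap (h2 : (2 : k) ≠ 0) {s : ℕ} (φ : ArSing.ring k s →ₐ[k] A) (τ : P →ₐ[k] P)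
    (h : φ (x k s) = xMap k r (τ PowerSeries.X)) (f : P) : φ (xMap k s f) = xMap k r (τ f) :=
  DFunLike.congr_fun (hom_ext_X h2 (u := φ.comp (xMap k s)) (v := (xMap k r).comp τ) (by simp [h])) f

/-- Homomorphisms to `k[[t]]` agreeing on `x` and `y` are equal. -/
theorem ev_ext {u v : A →ₐ[k] P} (hx : u (x k r) = v (x k r)) (hy : u (y k r) = v (y k r)) : u = v := by
  refine AlgHom.ext fun a => ?_
  obtain ⟨f, g, rfl⟩ := exists_eq a
  have e := fun f => DFunLike.congr_fun (algHom_ext_X (u.comp (xMap k r)) (v.comp (xMap k r)) (by simpa using hx)) f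
  simp only [AlgHom.comp_apply] at e
  rw [map_add, map_mul, map_add, map_mul, e, e, hy]

theorem end_ext (h2 : (2 : k) ≠ 0) {s : ℕ} {u v : ArSing.ring k s →ₐ[k] A} (hx : u (x k s) = v (x k s))
    (hy : u (y k s) = v (y k s)) : u = v :=
  AlgHom.ext fun a => evS_joint h2
    (DFunLike.congr_fun (ev_ext (u := (evS k r 1 (one_pow 2)).comp u) (v := (evS k r 1 (one_pow 2)).comp v) (by simp [hx]) (by simp [hy])) a)
    (DFunLike.congr_fun (ev_ext (u := (evS k r (-1) (by ring)).comp u) (v := (evS k r (-1) (by ring)).comp v) (by simp [hx]) (by simp [hy])) a)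

theorem isLocalRing (r : ℕ) : IsLocalRing (ArSing.ring k r) :=
  haveI : Nontrivial (ArSing.ring k r) := (evS k r 1 (one_pow 2)).toRingHom.domain_nontrivial
  IsLocalRing.of_surjective' (Ideal.Quotient.mk _) Ideal.Quotient.mk_surjective

/-- Units of `A_r`. -/
theorem isUnit_iff {f g : P} :
    IsUnit (xMap k r f + xMap k r g * y k r) ↔ PowerSeries.constantCoeff f ≠ 0 := by
  haveI := isLocalRing (k := k) r
  constructor
  · intro h h0
    have := (h.map (evS k r 1 (one_pow 2)))
    rw [evS_apply, PowerSeries.isUnit_iff_constantCoeff, map_add, map_mul, map_mul, map_pow, PowerSeries.constantCoeff_X,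
      zero_pow r.succ_ne_zero, mul_zero, mul_zero, add_zero, ← PowerSeries.coeff_zero_eq_constantCoeff_apply, coeff_sq,
      if_pos (dvd_zero 2), Nat.zero_div, PowerSeries.coeff_zero_eq_constantCoeff_apply, h0] at this
    exact not_isUnit_zero this
  · intro h
    have hf : IsUnit (xMap k r f) := (PowerSeries.isUnit_iff_constantCoeff.mpr (isUnit_iff_ne_zero.mpr h)).map (xMap k r)
    have hy : ¬ IsUnit (xMap k r g * y k r) := fun hu => by
      have := (isUnit_of_mul_isUnit_right hu).map (evS k r 1 (one_pow 2))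
      rw [evS, ev_y, PowerSeries.isUnit_iff_constantCoeff] at this
      simp at this
    by_contra hn
    have := IsLocalRing.nonunits_add (a := xMap k r f + xMap k r g * y k r) (b := -(xMap k r g * y k r)) hn (fun hu => hy (IsUnit.neg_iff _ |>.mp hu))
    simp [hf] at this

/-- The endomorphism given by lifts of the images of `x` and `y`. -/
noncomputable def endo (F G : Q2) (hF : MvPowerSeries.constantCoeff F = 0) (hG : MvPowerSeries.constantCoeff G = 0)
    (h : (Ideal.Quotient.mk _ G : A) ^ 2 = (Ideal.Quotient.mk _ F : A) ^ (r + 1)) : A →ₐ[k] A :=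
  Ideal.Quotient.liftₐ _ ((Ideal.Quotient.mkₐ k _).comp (MvPowerSeries.substAlgHom (a := ![F, G])
    (MvPowerSeries.hasSubst_of_constantCoeff_zero (Fin.forall_fin_two.mpr ⟨hF, hG⟩)))) fun H hH => by
    obtain ⟨H', rfl⟩ := Ideal.mem_span_singleton.mp hH
    show ((Ideal.Quotient.mkₐ k _).comp (MvPowerSeries.substAlgHom _))
      ((MvPowerSeries.X 1 ^ 2 - MvPowerSeries.X 0 ^ (r + 1)) * H') = (0 : A)
    rw [map_mul, map_sub, map_pow, map_pow, AlgHom.comp_apply, AlgHom.comp_apply, MvPowerSeries.substAlgHom_X,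
      MvPowerSeries.substAlgHom_X]
    simp [h]

@[simp] theorem endo_x (F G : Q2) (hF : MvPowerSeries.constantCoeff F = 0) (hG : MvPowerSeries.constantCoeff G = 0)
    (hFG : (Ideal.Quotient.mk _ G : A) ^ 2 = (Ideal.Quotient.mk _ F : A) ^ (r + 1)) : endo (r := r) F G hF hG hFG (x k r) = Ideal.Quotient.mk _ F := by
  rw [endo, x, Ideal.Quotient.liftₐ_apply, Ideal.Quotient.lift_mk]
  exact congrArg (Ideal.Quotient.mk _) (MvPowerSeries.substAlgHom_X (MvPowerSeries.hasSubst_of_constantCoeff_zero (Fin.forall_fin_two.mpr ⟨hF, hG⟩)) _)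

@[simp] theorem endo_y (F G : Q2) (hF : MvPowerSeries.constantCoeff F = 0) (hG : MvPowerSeries.constantCoeff G = 0)
    (hFG : (Ideal.Quotient.mk _ G : A) ^ 2 = (Ideal.Quotient.mk _ F : A) ^ (r + 1)) : endo (r := r) F G hF hG hFG (y k r) = Ideal.Quotient.mk _ G := by
  rw [endo, y, Ideal.Quotient.liftₐ_apply, Ideal.Quotient.lift_mk]
  exact congrArg (Ideal.Quotient.mk _) (MvPowerSeries.substAlgHom_X (MvPowerSeries.hasSubst_of_constantCoeff_zero (Fin.forall_fin_two.mpr ⟨hF, hG⟩)) _)

theorem length_quotient (n : ℕ) (θ : A →+* P ⧸ Ideal.span {(PowerSeries.X : P) ^ n}) (hθ : Function.Surjective θ)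
    (I : Ideal A) (hI : RingHom.ker θ = I) : Module.length A (A ⧸ I) = n := by
  letI : Algebra A (P ⧸ Ideal.span {(PowerSeries.X : P) ^ n}) := θ.toAlgebra
  have e : (A ⧸ I) ≃ₗ[A] (P ⧸ Ideal.span {(PowerSeries.X : P) ^ n}) :=
    (Submodule.quotEquivOfEq _ _ (by rw [← hI]; rfl)).trans
      (LinearMap.quotKerEquivOfSurjective (Algebra.linearMap A _) hθ)
  rw [e.length_eq, Module.length_eq_of_surjective (S := A) (R := P ⧸ Ideal.span {(PowerSeries.X : P) ^ n}) hθ,
    ← Module.length_eq_of_surjective (S := P) (R := P ⧸ Ideal.span {(PowerSeries.X : P) ^ n}) Ideal.Quotient.mk_surjective,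
    ← Ideal.span_singleton_pow, ← PowerSeries.maximalIdeal_eq_span_X, IsDiscreteValuationRing.length_quotient_pow_maximalIdeal]

theorem constantCoeff_sub0 (f : P) : MvPowerSeries.constantCoeff (sub0 k f) = PowerSeries.constantCoeff f := by
  rw [← MvPowerSeries.coeff_zero_eq_constantCoeff_apply, coeff_sub0]; simp

end Groth.Agent.ArSingInv
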