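import Groth.Agent.ArSingInv.Parity

/-!
# `A_r` for even `r` as a subring of `k[[t]]`
-/

set_option autoImplicit false
universe u

namespace Groth.Agent.ArSingInv

open ArSing

variable {k : Type u} [Field k] {r : ℕ}

local notation "P" => PowerSeries k
local notation "A" => ArSing.ring k r

/-- Endomorphisms of `k[[t]]` congruent at `t` are congruent everywhere. -/
theorem congr_of_X {m : ℕ} (a b : P →ₐ[k] P) (h : PowerSeries.X ^ m ∣ a PowerSeries.X - b PowerSeries.X) (f : P) :
    PowerSeries.X ^ m ∣ a f - b f := by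
  have hd : PowerSeries.X ^ m ∣ f - (PowerSeries.trunc m f : P) := PowerSeries.X_pow_dvd_iff.mpr fun i hi => by
    rw [map_sub, Polynomial.coeff_coe, PowerSeries.coeff_trunc, if_pos hi, sub_self]
  have key : ∀ c : P →ₐ[k] P, PowerSeries.X ^ m ∣ c f - Polynomial.aeval (c PowerSeries.X) (PowerSeries.trunc m f) := fun c => by
    have e : c.comp (Polynomial.coeToPowerSeries.algHom k) = Polynomial.aeval (c PowerSeries.X) :=
      Polynomial.algHom_ext (by simp)
    have e' := DFunLike.congr_fun e (PowerSeries.trunc m f)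
    simp only [AlgHom.comp_apply, Polynomial.coeToPowerSeries.algHom_apply] at e'
    rw [← e']
    simp only [PowerSeries.map_id, Algebra.algebraMap_self, RingHom.id_apply]
    rw [← map_sub]
    exact (pow_dvd_pow_of_dvd (PowerSeries.X_dvd_iff.mpr (const_map_X c)) m).trans
      (map_pow c PowerSeries.X m ▸ map_dvd c hd)
  have h' : PowerSeries.X ^ m ∣ Polynomial.aeval (a PowerSeries.X) (PowerSeries.trunc m f) -
      Polynomial.aeval (b PowerSeries.X) (PowerSeries.trunc m f) := by
    rw [← Polynomial.eval_map_algebraMap, ← Polynomial.eval_map_algebraMap]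
    exact h.trans (Polynomial.sub_dvd_eval_sub _ _ _)
  have := dvd_sub (dvd_add h' (key a)) (key b)
  simpa [sub_add_sub_cancel', add_comm, sub_sub] using this

variable (k r) in
/-- `x ↦ t^2, y ↦ t^(r+1)`. -/
noncomputable abbrev evC : A →ₐ[k] P := evS k r 1 (one_pow 2)

theorem evC_apply (f g : P) : evC k r (xMap k r f + xMap k r g * y k r) = sq k f + sq k g * PowerSeries.X ^ (r + 1) := by
  rw [evC, evS_apply, map_one, one_mul]

theorem evC_x : evC k r (x k r) = PowerSeries.X ^ 2 := ev_x _ _ _ _ _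

theorem evC_y : evC k r (y k r) = PowerSeries.X ^ (r + 1) := by
  rw [evC, evS, ev_y, map_one, one_mul]

theorem X_pow_eq_sq {n : ℕ} (hn : r = n + n) : (PowerSeries.X : P) ^ (r + 1) = PowerSeries.X * sq k (PowerSeries.X ^ n) := by
  rw [map_pow, sq_X, hn]; ring

theorem evC_injective {n : ℕ} (hn : r = n + n) : Function.Injective (evC k r) :=
  (injective_iff_map_eq_zero _).mpr fun a ha => by
    obtain ⟨f, g, rfl⟩ := exists_eq a
    rw [evC_apply, X_pow_eq_sq hn] at ha
    obtain ⟨hf, hg⟩ := parity_eq_zero (e := f) (o := g * PowerSeries.X ^ n) (by rw [map_mul]; linear_combination ha)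
    rw [hf, (mul_eq_zero.mp hg).resolve_right (pow_ne_zero _ PowerSeries.X_ne_zero), map_zero, zero_mul, add_zero]

theorem neg_evC {n : ℕ} (hn : r = n + n) (a : A) :
    PowerSeries.X ^ (r + 1) ∣ neg k (evC k r a) - evC k r a := by
  obtain ⟨f, g, rfl⟩ := exists_eq a
  have e : neg k (PowerSeries.X ^ (r + 1)) = -PowerSeries.X ^ (r + 1) := by
    rw [map_pow, neg_X, Odd.neg_pow ⟨n, by omega⟩]
  rw [evC_apply, map_add, map_mul, neg_sq, neg_sq, e]
  exact ⟨-(2 * sq k g), by ring⟩

theorem exists_evC (h2 : (2 : k) ≠ 0) {n : ℕ} (hn : r = n + n) {h : P}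
    (hh : PowerSeries.X ^ (r + 1) ∣ neg k h - h) : ∃ a : A, evC k r a = h := by
  obtain ⟨e, o, rfl⟩ := exists_parity h
  rw [neg_parity, map_neg] at hh
  have ho : PowerSeries.X ^ n ∣ o := PowerSeries.X_pow_dvd_iff.mpr fun i hi => by
    have := PowerSeries.X_pow_dvd_iff.mp hh (2 * i + 1) (by omega)
    rw [show sq k e + PowerSeries.X * -sq k o - (sq k e + PowerSeries.X * sq k o) = PowerSeries.X * (-2 * sq k o) by ring,
      PowerSeries.coeff_succ_X_mul, show (-2 : P) = PowerSeries.C (-2 : k) by rw [map_neg, map_ofNat],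
      PowerSeries.coeff_C_mul, coeff_sq, if_pos (dvd_mul_right 2 i), Nat.mul_div_cancel_left i two_pos] at this
    exact (mul_eq_zero.mp this).resolve_left (neg_ne_zero.mpr h2)
  obtain ⟨g, rfl⟩ := ho
  exact ⟨xMap k r e + xMap k r g * y k r, by rw [evC_apply, X_pow_eq_sq hn, map_mul (sq k)]; ring⟩

theorem exists_end (h2 : (2 : k) ≠ 0) {n : ℕ} (hn : r = n + n) (W : P) (hW : PowerSeries.constantCoeff W = 0)
    (hodd : PowerSeries.X ^ r ∣ neg k W + W) :
    ∃ ψ : A →ₐ[k] A, ∀ a, evC k r (ψ a) = PowerSeries.substAlgHom (PowerSeries.HasSubst.of_constantCoeff_zero' hW) (evC k r a) := by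
  have hXW : PowerSeries.X ∣ W := PowerSeries.X_dvd_iff.mpr hW
  have hXnW : PowerSeries.X ∣ neg k W := by
    have := map_dvd (neg k) hXW
    rw [neg_X] at this
    exact (dvd_neg.mpr dvd_rfl).trans this
  obtain ⟨a, ha⟩ := exists_evC h2 hn (h := W ^ 2) (by
    rw [map_pow, show neg k W ^ 2 - W ^ 2 = (neg k W - W) * (neg k W + W) by ring, pow_succ']
    exact mul_dvd_mul (dvd_sub hXnW hXW) hodd)
  obtain ⟨b, hb⟩ := exists_evC h2 hn (h := W ^ (r + 1)) (by
    rw [map_pow]; exact dvd_sub (pow_dvd_pow_of_dvd hXnW _) (pow_dvd_pow_of_dvd hXW _))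
  obtain ⟨F, rfl⟩ := Ideal.Quotient.mk_surjective a
  obtain ⟨G, rfl⟩ := Ideal.Quotient.mk_surjective b
  have hconst : ∀ (H : MvPowerSeries (Fin 2) k) (m : ℕ), m ≠ 0 → evC k r (Ideal.Quotient.mk _ H) = W ^ m →
      MvPowerSeries.constantCoeff H = 0 := fun H m hm h => by
    by_contra h0
    have := ((MvPowerSeries.isUnit_iff_constantCoeff.mpr (isUnit_iff_ne_zero.mpr h0)).map (Ideal.Quotient.mk (Ideal.span {eqn k r}))).map (evC k r)
    rw [h, PowerSeries.isUnit_iff_constantCoeff, map_pow, hW, zero_pow hm] at this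
    exact not_isUnit_zero this
  have hrel : (Ideal.Quotient.mk _ G : A) ^ 2 = (Ideal.Quotient.mk _ F : A) ^ (r + 1) :=
    evC_injective hn (by rw [map_pow, map_pow, ha, hb, ← pow_mul, ← pow_mul, Nat.mul_comm])
  refine ⟨endo (r := r) F G (hconst F 2 two_ne_zero ha) (hconst G (r + 1) r.succ_ne_zero hb) hrel, fun c => ?_⟩
  exact DFunLike.congr_fun (ev_ext (u := (evC k r).comp (endo (r := r) F G (hconst F 2 two_ne_zero ha) (hconst G (r + 1) r.succ_ne_zero hb) hrel))
    (v := (PowerSeries.substAlgHom (PowerSeries.HasSubst.of_constantCoeff_zero' hW)).comp (evC k r))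
    (by rw [AlgHom.comp_apply, AlgHom.comp_apply, endo_x, ha, evC_x, map_pow]; exact congrArg (· ^ 2) (PowerSeries.substAlgHom_X _).symm)
    (by rw [AlgHom.comp_apply, AlgHom.comp_apply, endo_y, hb, evC_y, map_pow]; exact congrArg (· ^ (r + 1)) (PowerSeries.substAlgHom_X _).symm)) c

end Groth.Agent.ArSingInv
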