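import Groth.Agent.ArSingInv.Parity

/-!
# The two branches of the node `k[[x, y]]/(y^2 - x^2)`
-/

set_option autoImplicit false
universe u

namespace Groth.Agent.ArSingInv

open ArSing

variable {k : Type u} [Field k]

local notation "P" => PowerSeries k
local notation "A" => ArSing.ring k 1

variable (k) in
/-- The branch `y = x`. -/
noncomputable def bp : A →ₐ[k] P := ev (r := 1) PowerSeries.X PowerSeries.X (by simp) (by simp) rfl

variable (k) in
/-- The branch `y = -x`. -/
noncomputable def bm : A →ₐ[k] P := ev (r := 1) PowerSeries.X (-PowerSeries.X) (by simp) (by simp) (by ring)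

theorem bp_x : bp k (x k 1) = PowerSeries.X := ev_x _ _ _ _ _
theorem bp_y : bp k (y k 1) = PowerSeries.X := ev_y _ _ _ _ _
theorem bm_x : bm k (x k 1) = PowerSeries.X := ev_x _ _ _ _ _
theorem bm_y : bm k (y k 1) = -PowerSeries.X := ev_y _ _ _ _ _

theorem bp_xMap (f : P) : bp k (xMap k 1 f) = f :=
  DFunLike.congr_fun (algHom_ext_X ((bp k).comp (xMap k 1)) (AlgHom.id k P) (by simp [bp_x])) f

theorem bm_xMap (f : P) : bm k (xMap k 1 f) = f :=
  DFunLike.congr_fun (algHom_ext_X ((bm k).comp (xMap k 1)) (AlgHom.id k P) (by simp [bm_x])) f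

theorem bp_apply (f g : P) : bp k (xMap k 1 f + xMap k 1 g * y k 1) = f + g * PowerSeries.X := by
  rw [map_add, map_mul, bp_xMap, bp_xMap, bp_y]

theorem bm_apply (f g : P) : bm k (xMap k 1 f + xMap k 1 g * y k 1) = f - g * PowerSeries.X := by
  rw [map_add, map_mul, bm_xMap, bm_xMap, bm_y, mul_neg, sub_eq_add_neg]

theorem branch_joint (h2 : (2 : k) ≠ 0) {a b : A} (hp : bp k a = bp k b) (hm : bm k a = bm k b) : a = b := by
  obtain ⟨f, g, rfl⟩ := exists_eq a
  obtain ⟨f', g', rfl⟩ := exists_eq b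
  rw [bp_apply, bp_apply] at hp
  rw [bm_apply, bm_apply] at hm
  have h2' : (2 : P) ≠ 0 := fun h0 => h2 (by simpa [map_ofNat] using congrArg PowerSeries.constantCoeff h0)
  have hf : f = f' := by
    have : (2 : P) * (f - f') = 0 := by linear_combination hp + hm
    exact sub_eq_zero.mp ((mul_eq_zero.mp this).resolve_left h2')
  have hg : g = g' := by
    have : (g - g') * PowerSeries.X = 0 := by linear_combination hp - hf
    exact sub_eq_zero.mp ((mul_eq_zero.mp this).resolve_right PowerSeries.X_ne_zero)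
  rw [hf, hg]

theorem exists_pair (h2 : (2 : k) ≠ 0) (p q : P) (h : PowerSeries.constantCoeff p = PowerSeries.constantCoeff q) :
    ∃ F : MvPowerSeries (Fin 2) k, MvPowerSeries.constantCoeff F = PowerSeries.constantCoeff p ∧
      bp k (Ideal.Quotient.mk _ F) = p ∧ bm k (Ideal.Quotient.mk _ F) = q := by
  obtain ⟨d, hd⟩ : PowerSeries.X ∣ p - q := PowerSeries.X_dvd_iff.mpr (by rw [map_sub, h, sub_self])
  let c : P := PowerSeries.C (2⁻¹ : k)
  have hc : c * 2 = 1 := by
    rw [show (2 : P) = PowerSeries.C (2 : k) from (map_ofNat _ 2).symm, ← map_mul, inv_mul_cancel₀ h2, map_one]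
  refine ⟨sub0 k (c * (p + q)) + sub0 k (c * d) * MvPowerSeries.X 1, ?_, ?_⟩
  · rw [map_add MvPowerSeries.constantCoeff, map_mul MvPowerSeries.constantCoeff (sub0 k (c * d)), constantCoeff_sub0, constantCoeff_sub0,
      MvPowerSeries.constantCoeff_X, mul_zero, add_zero, map_mul, map_add, ← h,
      PowerSeries.constantCoeff_C, ← two_mul, ← mul_assoc, inv_mul_cancel₀ h2, one_mul]
  · rw [show (Ideal.Quotient.mk _ (sub0 k (c * (p + q)) + sub0 k (c * d) * MvPowerSeries.X 1) : A) =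
      xMap k 1 (c * (p + q)) + xMap k 1 (c * d) * y k 1 from by rw [map_add (Ideal.Quotient.mk _), map_mul (Ideal.Quotient.mk _) (sub0 k (c * d))]; rfl, bp_apply, bm_apply]
    constructor
    · linear_combination (-c) * hd + p * hc
    · linear_combination c * hd + q * hc

theorem exists_pair' (h2 : (2 : k) ≠ 0) (p q : P) (h : PowerSeries.constantCoeff p = PowerSeries.constantCoeff q) :
    ∃ a : A, bp k a = p ∧ bm k a = q :=
  let ⟨F, _, h⟩ := exists_pair h2 p q h
  ⟨Ideal.Quotient.mk _ F, h⟩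

/-- An endomorphism acting branchwise. -/
theorem exists_branchwise (h2 : (2 : k) ≠ 0) (s t : P →ₐ[k] P) :
    ∃ φ : A →ₐ[k] A, (∀ a, bp k (φ a) = s (bp k a)) ∧ ∀ a, bm k (φ a) = t (bm k a) := by
  have hs := const_map_X s
  have ht := const_map_X t
  obtain ⟨F, hF0, hFp, hFm⟩ := exists_pair h2 (s PowerSeries.X) (t PowerSeries.X) (hs.trans ht.symm)
  obtain ⟨G, hG0, hGp, hGm⟩ := exists_pair h2 (s PowerSeries.X) (-t PowerSeries.X) (by rw [map_neg, hs, ht, neg_zero])
  have hrel : (Ideal.Quotient.mk _ G : A) ^ 2 = (Ideal.Quotient.mk _ F : A) ^ (1 + 1) :=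
    branch_joint h2 (by rw [map_pow, map_pow, hFp, hGp]) (by rw [map_pow, map_pow, hFm, hGm]; ring)
  refine ⟨endo (r := 1) F G (hF0.trans hs) (hG0.trans hs) hrel, fun a => ?_, fun a => ?_⟩
  · exact DFunLike.congr_fun (ev_ext (u := (bp k).comp (endo (r := 1) F G (hF0.trans hs) (hG0.trans hs) hrel)) (v := s.comp (bp k))
      (by simp [hFp, bp_x]) (by simp [hGp, bp_y])) a
  · exact DFunLike.congr_fun (ev_ext (u := (bm k).comp (endo (r := 1) F G (hF0.trans hs) (hG0.trans hs) hrel)) (v := t.comp (bm k))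
      (by simp [hFm, bm_x]) (by simp [hGm, bm_y])) a

/-- An automorphism acting branchwise. -/
theorem exists_branchwise_equiv (h2 : (2 : k) ≠ 0) (s t : P ≃ₐ[k] P) :
    ∃ φ : A ≃ₐ[k] A, (∀ a, bp k (φ a) = s (bp k a)) ∧ ∀ a, bm k (φ a) = t (bm k a) := by
  obtain ⟨φ, hp, hm⟩ := exists_branchwise h2 (s : P →ₐ[k] P) t
  obtain ⟨ψ, hp', hm'⟩ := exists_branchwise h2 (s.symm : P →ₐ[k] P) t.symm
  exact ⟨AlgEquiv.ofAlgHom φ ψ (AlgHom.ext fun a => branch_joint h2 (by simp [hp, hp']) (by simp [hm, hm']))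
    (AlgHom.ext fun a => branch_joint h2 (by simp [hp, hp']) (by simp [hm, hm'])), hp, hm⟩

/-- The exchange of the two branches. -/
theorem exists_swap (h2 : (2 : k) ≠ 0) :
    ∃ ν : A ≃ₐ[k] A, (∀ a, bp k (ν a) = bm k a) ∧ ∀ a, bm k (ν a) = bp k a := by
  have hrel : (Ideal.Quotient.mk _ (-MvPowerSeries.X 1) : A) ^ 2 = (Ideal.Quotient.mk _ (MvPowerSeries.X 0) : A) ^ (1 + 1) := by
    rw [← map_pow, show (-MvPowerSeries.X 1 : MvPowerSeries (Fin 2) k) ^ 2 = MvPowerSeries.X 1 ^ 2 by ring, map_pow]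
    exact y_sq (r := 1)
  let ν := endo (r := 1) (MvPowerSeries.X 0) (-MvPowerSeries.X 1) (MvPowerSeries.constantCoeff_X _)
    (by rw [map_neg, MvPowerSeries.constantCoeff_X, neg_zero]) hrel
  have hx : ν (x k 1) = x k 1 := endo_x _ _ _ _ _
  have hy : ν (y k 1) = -y k 1 := (endo_y _ _ _ _ _).trans (map_neg _ _)
  have h : ν.comp ν = AlgHom.id k A := end_ext h2 (by simp [hx]) (by simp [hy])
  exact ⟨AlgEquiv.ofAlgHom ν ν h h,
    fun a => DFunLike.congr_fun (ev_ext (u := (bp k).comp ν) (v := bm k) (by simp [hx, bp_x, bm_x]) (by simp [hy, bp_y, bm_y])) a,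
    fun a => DFunLike.congr_fun (ev_ext (u := (bm k).comp ν) (v := bp k) (by simp [hx, bp_x, bm_x]) (by simp [hy, bp_y, bm_y])) a⟩

/-- Every homomorphism to `k[[t]]` factors through one of the branches. -/
theorem factor_branch (u : A →ₐ[k] P) :
    ∃ s : P →ₐ[k] P, (∀ a, u a = s (bp k a)) ∨ ∀ a, u a = s (bm k a) := by
  have hc : PowerSeries.constantCoeff (u (x k 1)) = 0 := by
    simpa using const_map_X (u.comp (xMap k 1))
  refine ⟨PowerSeries.substAlgHom (PowerSeries.HasSubst.of_constantCoeff_zero' hc), ?_⟩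
  have e : u (y k 1) ^ 2 = u (x k 1) ^ 2 :=
    ((map_pow u _ 2).symm.trans (congrArg u (y_sq (k := k) (r := 1)))).trans (map_pow u _ _)
  rcases sq_eq_sq_iff_eq_or_eq_neg.mp e with h | h
  · exact Or.inl fun a => DFunLike.congr_fun (ev_ext (u := u) (v := (PowerSeries.substAlgHom (PowerSeries.HasSubst.of_constantCoeff_zero' hc)).comp (bp k))
      (by rw [AlgHom.comp_apply, bp_x]; exact (PowerSeries.substAlgHom_X _).symm)
      (by rw [AlgHom.comp_apply, bp_y, h]; exact (PowerSeries.substAlgHom_X _).symm)) a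
  · exact Or.inr fun a => DFunLike.congr_fun (ev_ext (u := u) (v := (PowerSeries.substAlgHom (PowerSeries.HasSubst.of_constantCoeff_zero' hc)).comp (bm k))
      (by rw [AlgHom.comp_apply, bm_x]; exact (PowerSeries.substAlgHom_X _).symm)
      (by rw [AlgHom.comp_apply, bm_y, h, map_neg]; exact congrArg Neg.neg (PowerSeries.substAlgHom_X _).symm)) a

end Groth.Agent.ArSingInv
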