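import Groth.Agent.ArSingInv.Basic

/-!
# Even and odd parts of power series; truncated evaluations of `A_r`
-/

set_option autoImplicit false
universe u

namespace Groth.Agent.ArSingInv

open ArSing

variable {k : Type u} [Field k] {r : ℕ}

local notation "P" => PowerSeries k

theorem constantCoeff_sq (f : P) : PowerSeries.constantCoeff (sq k f) = PowerSeries.constantCoeff f := by
  rw [← PowerSeries.coeff_zero_eq_constantCoeff_apply, coeff_sq, if_pos (dvd_zero 2), Nat.zero_div,
    PowerSeries.coeff_zero_eq_constantCoeff_apply]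

theorem exists_parity (f : P) : ∃ e o : P, f = sq k e + PowerSeries.X * sq k o := by
  refine ⟨PowerSeries.mk fun n => PowerSeries.coeff (2 * n) f, PowerSeries.mk fun n => PowerSeries.coeff (2 * n + 1) f, ?_⟩
  ext n
  rcases n with _ | n
  · simp [constantCoeff_sq]
  · rw [map_add, PowerSeries.coeff_succ_X_mul, coeff_sq, coeff_sq, PowerSeries.coeff_mk, PowerSeries.coeff_mk]
    rcases Nat.even_or_odd n with ⟨j, rfl⟩ | ⟨j, rfl⟩
    · rw [if_neg (by omega), if_pos (by omega), zero_add, show (2 * ((j + j) / 2) + 1) = j + j + 1 by omega]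
    · rw [if_pos (by omega), if_neg (by omega), add_zero, show 2 * ((2 * j + 1 + 1) / 2) = 2 * j + 1 + 1 by omega]

theorem parity_eq_zero {e o : P} (h : sq k e + PowerSeries.X * sq k o = 0) : e = 0 ∧ o = 0 := by
  constructor <;> ext n
  · have := congrArg (PowerSeries.coeff (2 * n)) h
    rcases n with _ | n
    · simpa [constantCoeff_sq] using this
    · rw [show 2 * (n + 1) = (2 * n + 1) + 1 by ring, map_add, PowerSeries.coeff_succ_X_mul, coeff_sq, coeff_sq,
        if_pos (by omega), if_neg (by omega), add_zero, show (2 * n + 1 + 1) / 2 = n + 1 by omega] at this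
      simpa using this
  · have := congrArg (PowerSeries.coeff (2 * n + 1)) h
    rw [map_add, PowerSeries.coeff_succ_X_mul, coeff_sq, coeff_sq, if_neg (by omega), if_pos (by omega), zero_add,
      show 2 * n / 2 = n by omega] at this
    simpa using this

theorem parity_ext {e o e' o' : P} (h : sq k e + PowerSeries.X * sq k o = sq k e' + PowerSeries.X * sq k o') :
    e = e' ∧ o = o' := by
  have := parity_eq_zero (e := e - e') (o := o - o') (by rw [map_sub, map_sub]; linear_combination h)
  exact ⟨sub_eq_zero.mp this.1, sub_eq_zero.mp this.2⟩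

variable (k) in
/-- `f ↦ f(-t)`. -/
noncomputable def neg : P →ₐ[k] P :=
  PowerSeries.substAlgHom (PowerSeries.HasSubst.of_constantCoeff_zero' (a := (-PowerSeries.X : P)) (by simp))

theorem neg_X : neg k PowerSeries.X = -PowerSeries.X := PowerSeries.substAlgHom_X _

theorem neg_sq (e : P) : neg k (sq k e) = sq k e :=
  DFunLike.congr_fun (algHom_ext_X ((neg k).comp (sq k)) (sq k) (by
    rw [AlgHom.comp_apply, sq_X, map_pow, neg_X, _root_.neg_sq])) e

theorem neg_parity (e o : P) : neg k (sq k e + PowerSeries.X * sq k o) = sq k e + PowerSeries.X * sq k (-o) := by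
  rw [map_add, map_mul, neg_X, neg_sq, neg_sq, map_neg, neg_mul, mul_neg]

/-- Evaluation of `A_r` in a truncated power series ring. -/
noncomputable def evMod (n : ℕ) (p q : P) (hp : PowerSeries.constantCoeff p = 0) (hq : PowerSeries.constantCoeff q = 0)
    (h : q ^ 2 - p ^ (r + 1) ∈ Ideal.span {(PowerSeries.X : P) ^ n}) :
    ArSing.ring k r →+* P ⧸ Ideal.span {(PowerSeries.X : P) ^ n} :=
  Ideal.Quotient.lift _ ((Ideal.Quotient.mk _).comp (MvPowerSeries.substAlgHom (a := ![p, q])
    (MvPowerSeries.hasSubst_of_constantCoeff_zero (Fin.forall_fin_two.mpr ⟨hp, hq⟩))).toRingHom) fun F hF => by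
    obtain ⟨G, rfl⟩ := Ideal.mem_span_singleton.mp hF
    rw [map_mul]
    show Ideal.Quotient.mk _ (MvPowerSeries.substAlgHom _ (MvPowerSeries.X 1 ^ 2 - MvPowerSeries.X 0 ^ (r + 1))) * _ = 0
    rw [map_sub (MvPowerSeries.substAlgHom _), map_pow, map_pow, MvPowerSeries.substAlgHom_X, MvPowerSeries.substAlgHom_X]
    exact mul_eq_zero_of_left (Ideal.Quotient.eq_zero_iff_mem.mpr h) _

theorem evMod_y (n : ℕ) (p q : P) (hp : PowerSeries.constantCoeff p = 0) (hq : PowerSeries.constantCoeff q = 0)
    (h : q ^ 2 - p ^ (r + 1) ∈ Ideal.span {(PowerSeries.X : P) ^ n}) :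
    evMod n p q hp hq h (y k r) = Ideal.Quotient.mk _ q :=
  congrArg (Ideal.Quotient.mk _) (MvPowerSeries.substAlgHom_X
    (MvPowerSeries.hasSubst_of_constantCoeff_zero (Fin.forall_fin_two.mpr ⟨hp, hq⟩)) 1)

theorem evMod_xMap (n : ℕ) (p q : P) (hp : PowerSeries.constantCoeff p = 0) (hq : PowerSeries.constantCoeff q = 0)
    (h : q ^ 2 - p ^ (r + 1) ∈ Ideal.span {(PowerSeries.X : P) ^ n}) (f : P) :
    evMod n p q hp hq h (xMap k r f) =
      Ideal.Quotient.mk _ (PowerSeries.substAlgHom (PowerSeries.HasSubst.of_constantCoeff_zero' hp) f) :=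
  congrArg (Ideal.Quotient.mk _) (DFunLike.congr_fun (algHom_ext_X ((MvPowerSeries.substAlgHom (a := ![p, q])
    (MvPowerSeries.hasSubst_of_constantCoeff_zero (Fin.forall_fin_two.mpr ⟨hp, hq⟩))).comp (sub0 k)) _ (by
      rw [AlgHom.comp_apply, sub0_X, MvPowerSeries.substAlgHom_X]
      exact (PowerSeries.substAlgHom_X _).symm)) f)

theorem x_mem_nonZeroDivisors (h2 : (2 : k) ≠ 0) : x k r ∈ nonZeroDivisors (ArSing.ring k r) := by
  rw [mem_nonZeroDivisors_iff_right]
  intro a ha
  obtain ⟨f, g, rfl⟩ := exists_eq a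
  have e : xMap k r (f * PowerSeries.X) + xMap k r (g * PowerSeries.X) * y k r = 0 := by
    rw [← ha, map_mul, map_mul, xMap_X]; ring
  obtain ⟨hf, hg⟩ := eq_zero_of h2 e
  rw [(mul_eq_zero.mp hf).resolve_right PowerSeries.X_ne_zero, (mul_eq_zero.mp hg).resolve_right PowerSeries.X_ne_zero,
    map_zero, zero_mul, add_zero]

end Groth.Agent.ArSingInv
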