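import Groth.Agent.ArSingInv.Cusp

/-!
# The two branches of `A_r` for `r + 1 = m + m`
-/

set_option autoImplicit false
universe u

namespace Groth.Agent.ArSingInv

open ArSing

variable {k : Type u} [Field k] {r : ℕ}

local notation "P" => PowerSeries k
local notation "A" => ArSing.ring k r

variable (k r) in
/-- The branch `y = ε x^m`. -/
noncomputable def brm (m : ℕ) (hm : r + 1 = m + m) (ε : k) (hε : ε ^ 2 = 1) : A →ₐ[k] P :=
  ev (r := r) PowerSeries.X (PowerSeries.C ε * PowerSeries.X ^ m) (by simp)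
    (by
      have : m ≠ 0 := by omega
      simp [this])
    (by rw [mul_pow, ← map_pow, hε, map_one, one_mul, ← pow_mul, hm, Nat.mul_two])

variable {m : ℕ} (hm : r + 1 = m + m)

theorem brm_x (ε : k) (hε : ε ^ 2 = 1) : brm k r m hm ε hε (x k r) = PowerSeries.X := ev_x _ _ _ _ _

theorem brm_y (ε : k) (hε : ε ^ 2 = 1) : brm k r m hm ε hε (y k r) = PowerSeries.C ε * PowerSeries.X ^ m := ev_y _ _ _ _ _

theorem brm_apply (ε : k) (hε : ε ^ 2 = 1) (f g : P) :
    brm k r m hm ε hε (xMap k r f + xMap k r g * y k r) = f + g * (PowerSeries.C ε * PowerSeries.X ^ m) := by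
  have e : ∀ f, brm k r m hm ε hε (xMap k r f) = f :=
    DFunLike.congr_fun (algHom_ext_X ((brm k r m hm ε hε).comp (xMap k r)) (AlgHom.id k P) (by simp [brm_x]))
  rw [map_add, map_mul, e, e, brm_y]

/-- The positive branch. -/
noncomputable abbrev brp : A →ₐ[k] P := brm k r m hm 1 (one_pow 2)

/-- The negative branch. -/
noncomputable abbrev brn : A →ₐ[k] P := brm k r m hm (-1) (by ring)

theorem brp_y : brp hm (y k r) = PowerSeries.X ^ m := by rw [brp, brm_y, map_one, one_mul]

theorem brn_y : brn hm (y k r) = -(PowerSeries.X : P) ^ m := by rw [brn, brm_y, map_neg, map_one, neg_one_mul]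

theorem brm_joint (h2 : (2 : k) ≠ 0) {a b : A} (hp : brp hm a = brp hm b) (hn : brn hm a = brn hm b) : a = b := by
  obtain ⟨f, g, rfl⟩ := exists_eq a
  obtain ⟨f', g', rfl⟩ := exists_eq b
  rw [brp, brm_apply, brm_apply, map_one, one_mul] at hp
  rw [brn, brm_apply, brm_apply, map_neg, map_one, neg_one_mul] at hn
  have h2' : (2 : P) ≠ 0 := fun h0 => h2 (by simpa [map_ofNat] using congrArg PowerSeries.constantCoeff h0)
  have hf : f = f' := by
    have : (2 : P) * (f - f') = 0 := by linear_combination hp + hn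
    exact sub_eq_zero.mp ((mul_eq_zero.mp this).resolve_left h2')
  have hg : g = g' := by
    have : (g - g') * PowerSeries.X ^ m = 0 := by linear_combination hp - hf
    exact sub_eq_zero.mp ((mul_eq_zero.mp this).resolve_right (pow_ne_zero _ PowerSeries.X_ne_zero))
  rw [hf, hg]

theorem brm_congr (a : A) : PowerSeries.X ^ m ∣ brp hm a - brn hm a := by
  obtain ⟨f, g, rfl⟩ := exists_eq a
  rw [brp, brn, brm_apply, brm_apply, map_neg, map_one]
  exact ⟨2 * g, by ring⟩

theorem exists_pair_m (h2 : (2 : k) ≠ 0) (p q : P) (h : PowerSeries.X ^ m ∣ p - q) :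
    ∃ a : A, brp hm a = p ∧ brn hm a = q := by
  obtain ⟨d, hd⟩ := h
  have hc : PowerSeries.C (2⁻¹ : k) * 2 = (1 : P) := by
    rw [show (2 : P) = PowerSeries.C (2 : k) from (map_ofNat _ 2).symm, ← map_mul, inv_mul_cancel₀ h2, map_one]
  refine ⟨xMap k r (PowerSeries.C (2⁻¹ : k) * (p + q)) + xMap k r (PowerSeries.C (2⁻¹ : k) * d) * y k r, ?_, ?_⟩
  · rw [brp, brm_apply, map_one, one_mul]; linear_combination (-PowerSeries.C (2⁻¹ : k)) * hd + p * hc
  · rw [brn, brm_apply, map_neg, map_one]; linear_combination PowerSeries.C (2⁻¹ : k) * hd + q * hc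

theorem exists_branchwise_m (h2 : (2 : k) ≠ 0) (s t : P →ₐ[k] P)
    (hst : PowerSeries.X ^ m ∣ s PowerSeries.X - t PowerSeries.X) :
    ∃ φ : A →ₐ[k] A, (∀ a, brp hm (φ a) = s (brp hm a)) ∧ ∀ a, brn hm (φ a) = t (brn hm a) := by
  have hm0 : m ≠ 0 := by omega
  obtain ⟨a, hap, han⟩ := exists_pair_m hm h2 (s PowerSeries.X) (t PowerSeries.X) hst
  have hsX := PowerSeries.X_dvd_iff.mpr (const_map_X s)
  have htX := PowerSeries.X_dvd_iff.mpr (const_map_X t)
  obtain ⟨b, hbp, hbn⟩ := exists_pair_m hm h2 (s PowerSeries.X ^ m) (-t PowerSeries.X ^ m)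
    (dvd_sub (pow_dvd_pow_of_dvd hsX _) (dvd_neg.mpr (pow_dvd_pow_of_dvd htX _)))
  obtain ⟨F, rfl⟩ := Ideal.Quotient.mk_surjective a
  obtain ⟨G, rfl⟩ := Ideal.Quotient.mk_surjective b
  have hconst : ∀ (H : MvPowerSeries (Fin 2) k), PowerSeries.constantCoeff (brp hm (Ideal.Quotient.mk _ H)) = 0 →
      MvPowerSeries.constantCoeff H = 0 := fun H h => by
    by_contra h0
    have := ((MvPowerSeries.isUnit_iff_constantCoeff.mpr (isUnit_iff_ne_zero.mpr h0)).map (Ideal.Quotient.mk (Ideal.span {eqn k r}))).map (brp hm)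
    rw [PowerSeries.isUnit_iff_constantCoeff, h] at this
    exact not_isUnit_zero this
  have hF : MvPowerSeries.constantCoeff F = 0 := hconst F (by rw [hap]; exact const_map_X s)
  have hG : MvPowerSeries.constantCoeff G = 0 := hconst G (by rw [hbp, map_pow, const_map_X s, zero_pow hm0])
  have hrel : (Ideal.Quotient.mk _ G : A) ^ 2 = (Ideal.Quotient.mk _ F : A) ^ (r + 1) := brm_joint hm h2
    (by rw [map_pow, map_pow, hap, hbp, ← pow_mul, hm, Nat.mul_two])
    (by rw [map_pow, map_pow, han, hbn, Even.neg_pow even_two, ← pow_mul, hm, Nat.mul_two])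
  refine ⟨endo (r := r) F G hF hG hrel, fun a => ?_, fun a => ?_⟩
  · exact DFunLike.congr_fun (ev_ext (u := (brp hm).comp (endo (r := r) F G hF hG hrel)) (v := s.comp (brp hm))
      (by rw [AlgHom.comp_apply, AlgHom.comp_apply, endo_x, hap, brp, brm_x])
      (by rw [AlgHom.comp_apply, AlgHom.comp_apply, endo_y, hbp, brp_y, map_pow])) a
  · exact DFunLike.congr_fun (ev_ext (u := (brn hm).comp (endo (r := r) F G hF hG hrel)) (v := t.comp (brn hm))
      (by rw [AlgHom.comp_apply, AlgHom.comp_apply, endo_x, han, brn, brm_x])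
      (by rw [AlgHom.comp_apply, AlgHom.comp_apply, endo_y, hbn, brn_y, map_neg, map_pow])) a

theorem exists_branchwise_equiv_m (h2 : (2 : k) ≠ 0) (s t : P ≃ₐ[k] P)
    (hst : PowerSeries.X ^ m ∣ s PowerSeries.X - t PowerSeries.X) :
    ∃ φ : A ≃ₐ[k] A, (∀ a, brp hm (φ a) = s (brp hm a)) ∧ ∀ a, brn hm (φ a) = t (brn hm a) := by
  obtain ⟨φ, hp, hn⟩ := exists_branchwise_m hm h2 (s : P →ₐ[k] P) t hst
  have hst' : PowerSeries.X ^ m ∣ s.symm PowerSeries.X - t.symm PowerSeries.X := by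
    have h1 := congr_of_X (s : P →ₐ[k] P) t hst (t.symm PowerSeries.X)
    simp only [AlgEquiv.coe_toAlgHom, AlgEquiv.apply_symm_apply] at h1
    have h2 := map_dvd s.symm h1
    rw [map_pow, map_sub, s.symm_apply_apply] at h2
    exact dvd_sub_comm.mp ((pow_dvd_pow_of_dvd (PowerSeries.X_dvd_iff.mpr (const_map_X (s.symm : P →ₐ[k] P))) m).trans h2)
  obtain ⟨ψ, hp', hn'⟩ := exists_branchwise_m hm h2 (s.symm : P →ₐ[k] P) t.symm hst'
  exact ⟨AlgEquiv.ofAlgHom φ ψ (AlgHom.ext fun a => brm_joint hm h2 (by simp [hp, hp']) (by simp [hn, hn']))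
    (AlgHom.ext fun a => brm_joint hm h2 (by simp [hp, hp']) (by simp [hn, hn'])), hp, hn⟩

theorem factor_brm (u : A →ₐ[k] P) :
    ∃ s : P →ₐ[k] P, (∀ a, u a = s (brp hm a)) ∨ ∀ a, u a = s (brn hm a) := by
  have hc : PowerSeries.constantCoeff (u (x k r)) = 0 := by
    simpa using const_map_X (u.comp (xMap k r))
  have hs : PowerSeries.substAlgHom (R := k) (PowerSeries.HasSubst.of_constantCoeff_zero' hc) PowerSeries.X = u (x k r) :=
    PowerSeries.substAlgHom_X _
  refine ⟨PowerSeries.substAlgHom (R := k) (PowerSeries.HasSubst.of_constantCoeff_zero' hc), ?_⟩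
  have e : u (y k r) ^ 2 = (u (x k r) ^ m) ^ 2 := by
    refine ((map_pow u _ 2).symm.trans ((congrArg u (y_sq (k := k) (r := r))).trans (map_pow u _ _))).trans ?_
    rw [← pow_mul, hm, Nat.mul_two]
  rcases sq_eq_sq_iff_eq_or_eq_neg.mp e with h | h
  · exact Or.inl fun a => DFunLike.congr_fun (ev_ext (u := u) (v := (PowerSeries.substAlgHom (PowerSeries.HasSubst.of_constantCoeff_zero' hc)).comp (brp hm))
      (by rw [AlgHom.comp_apply, brp, brm_x, hs]) (by rw [AlgHom.comp_apply, brp_y, h, map_pow, hs])) a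
  · exact Or.inr fun a => DFunLike.congr_fun (ev_ext (u := u) (v := (PowerSeries.substAlgHom (PowerSeries.HasSubst.of_constantCoeff_zero' hc)).comp (brn hm))
      (by rw [AlgHom.comp_apply, brn, brm_x, hs]) (by rw [AlgHom.comp_apply, brn_y, h, map_neg, map_pow, hs])) a

/-- An automorphism of `k[[t]]` with prescribed image of `t`. -/
theorem exists_subst_equiv (g : P) (h0 : PowerSeries.constantCoeff g = 0) (h1 : IsUnit (PowerSeries.coeff 1 g)) :
    ∃ φ : P ≃ₐ[k] P, φ PowerSeries.X = g := by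
  have hgs : PowerSeries.HasSubst g := PowerSeries.HasSubst.of_constantCoeff_zero' h0
  have hQs : PowerSeries.HasSubst (g.substInvOfIsUnit h1) :=
    PowerSeries.HasSubst.of_constantCoeff_zero' (g.constantCoeff_substInvOfIsUnit h1)
  exact ⟨AlgEquiv.ofAlgHom (PowerSeries.substAlgHom hgs) (PowerSeries.substAlgHom hQs)
    (algHom_ext_X _ _ (by
      rw [AlgHom.comp_apply, PowerSeries.substAlgHom_X, PowerSeries.coe_substAlgHom, AlgHom.id_apply]
      exact g.subst_substInvOfIsUnit_left h0 h1))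
    (algHom_ext_X _ _ (by
      rw [AlgHom.comp_apply, PowerSeries.substAlgHom_X, PowerSeries.coe_substAlgHom, AlgHom.id_apply]
      exact g.subst_substInvOfIsUnit_right h0 h1)), PowerSeries.substAlgHom_X hgs⟩

end Groth.Agent.ArSingInv
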